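import Cfsg.Agent.H63.GW.Hereditary
import Cfsg.Agent.Thompson.ZJFusion

/-!
# GW programme: no `SL₂(p)` and no `Qd(p)` section with dihedral Sylow 2-subgroups
-/

set_option autoImplicit false

namespace Cfsg.Agent.H60.GW

open Subgroup Cfsg.Agent

universe u

variable {p : ℕ} [Fact p.Prime]

theorem sl2_eq_one_or_neg_one (z : Matrix.SpecialLinearGroup (Fin 2) (ZMod p)) (hp : p ≠ 2)
    (hz : z * z = 1) : z = 1 ∨ z = -1 := by
  have h2 : (2 : ZMod p) ≠ 0 := Ring.two_ne_zero (by rw [ZMod.ringChar_zmod_n]; exact hp)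
  have hinv : z⁻¹ = z := inv_eq_of_mul_eq_one_right hz
  have h := congrArg Subtype.val hinv
  rw [Matrix.SpecialLinearGroup.coe_inv, Matrix.adjugate_fin_two] at h
  have h01 : z.1 0 1 = 0 := by
    have := congrFun (congrFun h 0) 1
    simp at this
    have h' : z.1 0 1 * 2 = 0 := by linear_combination -this
    exact (mul_eq_zero.1 h').resolve_right h2
  have h10 : z.1 1 0 = 0 := by
    have := congrFun (congrFun h 1) 0
    simp at this
    have h' : z.1 1 0 * 2 = 0 := by linear_combination -this
    exact (mul_eq_zero.1 h').resolve_right h2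
  have h00 : z.1 1 1 = z.1 0 0 := by
    have := congrFun (congrFun h 0) 0
    simpa using this
  have hdet := z.2
  rw [Matrix.det_fin_two, h01, h10, h00] at hdet
  have hd : (z.1 0 0 - 1) * (z.1 0 0 + 1) = 0 := by linear_combination hdet
  rcases mul_eq_zero.1 hd with e | e
  · left
    have e' : z.1 0 0 = 1 := by linear_combination e
    apply Subtype.ext
    ext i j
    fin_cases i <;> fin_cases j <;> simp [h01, h10, h00, e']
  · right
    have e' : z.1 0 0 = -1 := by linear_combination e
    apply Subtype.ext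
    rw [Matrix.SpecialLinearGroup.coe_neg]
    ext i j
    fin_cases i <;> fin_cases j <;> simp [h01, h10, h00, e']

theorem not_hasSection_sl2 {G : Type u} [Group G] [Finite G] (h : H63.GW.SylowDType G) (hp : p ≠ 2) :
    ¬ Thompson.HasSection (Matrix.SpecialLinearGroup (Fin 2) (ZMod p)) G := by
  rintro ⟨M, φ, hφ⟩
  obtain ⟨u, w, hQ, hne⟩ := Thompson.exists_sl2_quaternion (p := p) hp
  obtain ⟨S', hS'⟩ := hQ.exists_le_sylow
  obtain ⟨S, rfl⟩ := Sylow.mapSurjective_surjective hφ 2 S'
  obtain ⟨m, hm, rfl⟩ := hS' (subset_closure (Set.mem_insert _ _))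
  obtain ⟨n, hn, rfl⟩ := hS' (subset_closure (Set.mem_insert_of_mem _ rfl))
  apply hne
  rcases (h.subgroup M) S with hc | ⟨k, hk, ⟨e⟩⟩
  · rw [← map_mul, ← map_mul]
    have := congrArg Subtype.val (hc.commGroup.mul_comm (⟨m, hm⟩ : (S : Subgroup M)) ⟨n, hn⟩)
    exact congrArg φ this
  · -- involutions map to central elements
    let ψ : DihedralGroup k →* Matrix.SpecialLinearGroup (Fin 2) (ZMod p) :=
      φ.comp ((S : Subgroup M).subtype.comp e.symm.toMonoidHom)
    have hcent : ∀ i, ψ (DihedralGroup.sr i) ∈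
        Subgroup.center (Matrix.SpecialLinearGroup (Fin 2) (ZMod p)) := fun i => by
      rcases sl2_eq_one_or_neg_one _ hp (show ψ (DihedralGroup.sr i) * ψ (DihedralGroup.sr i) = 1 by
        rw [← map_mul, DihedralGroup.sr_mul_self, map_one]) with e1 | e1
      · rw [e1]; exact one_mem _
      · rw [e1]; exact mem_center_iff.2 fun g => by rw [mul_neg, neg_mul, mul_one, one_mul]
    have hall : ∀ g, ψ g ∈ Subgroup.center (Matrix.SpecialLinearGroup (Fin 2) (ZMod p)) := by
      rintro (i | i)
      · rw [show DihedralGroup.r i = DihedralGroup.sr 0 * DihedralGroup.sr i by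
          rw [DihedralGroup.sr_mul_sr, sub_zero], map_mul]
        exact mul_mem (hcent _) (hcent _)
      · exact hcent _
    have key : φ n ∈ Subgroup.center (Matrix.SpecialLinearGroup (Fin 2) (ZMod p)) := by
      have := hall (e ⟨n, hn⟩)
      simpa [ψ] using this
    exact mem_center_iff.1 key _

theorem not_hasSection_qd {G : Type u} [Group G] [Finite G] (h : H63.GW.SylowDType G) (hp : p ≠ 2) :
    ¬ Thompson.HasSection (Cfsg.qd p) G :=
  fun h' => not_hasSection_sl2 h hp (Thompson.hasSection_sl2_of_qd h')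

end Cfsg.Agent.H60.GW
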