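import Cfsg.Agent.H82.GW.Setting
import Cfsg.Agent.H60.GW.SectionFree

/-!
# GW v3, FittingStep: the single-prime case (FUSION)

If `N(Z(J(P))) ≤ M` for a Sylow subgroup `P` of `G`, strong fusion carries a conjugacy of `s` to
`t` into `M`, so every element fixed by `s` of a normal `p`-subgroup of `M` is centralised by `t`.
-/

set_option autoImplicit false
set_option linter.unusedSectionVars false

namespace Cfsg.Agent.H60.GW

open Subgroup Cfsg.Agent
open Cfsg.Agent.H39 (DGen exists_conj_le_sylow orderOf_conj)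

universe u

variable {G : Type u} [Group G] [Finite G] {p : ℕ} [hp : Fact p.Prime] {S : Sylow 2 G} {l : ℕ} {c s : G}

omit hp in
/-- A second involution centralised by `s` in a subgroup containing `s` and an involution not
conjugate to `s` in it. -/
theorem exists_commuting_involution (h : H63.GW.SylowDType G) {R : Subgroup G} {w : G}
    (hs : s ∈ R) (hos : orderOf s = 2) (hw : w ∈ R) (how : orderOf w = 2)
    (hne : ∀ r ∈ R, r * s * r⁻¹ ≠ w) :
    ∃ v ∈ R, orderOf v = 2 ∧ v ≠ s ∧ Commute v s := by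
  have h2 : Fact (Nat.Prime 2) := ⟨Nat.prime_two⟩
  have hsp : IsPGroup 2 (zpowers (⟨s, hs⟩ : R)) :=
    IsPGroup.of_card (n := 1) (by rw [Nat.card_zpowers, Subgroup.orderOf_mk, hos, pow_one])
  obtain ⟨Q, hQ⟩ := hsp.exists_le_sylow
  have hsQ : (⟨s, hs⟩ : R) ∈ (Q : Subgroup R) := hQ (mem_zpowers _)
  have hwp : IsPGroup 2 (zpowers (⟨w, hw⟩ : R)) :=
    IsPGroup.of_card (n := 1) (by rw [Nat.card_zpowers, Subgroup.orderOf_mk, how, pow_one])
  obtain ⟨r, hr⟩ := exists_conj_le_sylow hwp Q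
  have hwQ := hr _ (mem_zpowers _)
  rcases (h.subgroup R) Q with hc | ⟨n, hn, ⟨e⟩⟩
  · exfalso
    obtain ⟨g, hg⟩ := hc.exists_generator
    obtain ⟨i, hi⟩ := mem_zpowers_iff.1 (hg ⟨_, hsQ⟩)
    obtain ⟨j, hj⟩ := mem_zpowers_iff.1 (hg ⟨_, hwQ⟩)
    obtain ⟨k, hk⟩ := mem_zpowers_iff.1 (H39.mem_zpowers_of_orderOf_eq (w := g) ⟨i, hi⟩ ⟨j, hj⟩ (by
      simp only [Subgroup.orderOf_mk, orderOf_conj, hos, how]))
    have hk' : (s : G) ^ k = (r : G) * w * (r : G)⁻¹ := by
      simpa using congrArg (fun a : (Q : Subgroup R) => ((a : R) : G)) hk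
    rcases Int.even_or_odd k with ⟨j', rfl⟩ | ⟨j', rfl⟩
    · rw [← two_mul, zpow_mul, zpow_two, H39.mul_self_of_orderOf_eq_two hos, one_zpow] at hk'
      have : orderOf ((r : G) * w * (r : G)⁻¹) = 1 := by rw [← hk', orderOf_one]
      rw [orderOf_conj, how] at this
      omega
    · rw [zpow_add_one, zpow_mul, zpow_two, H39.mul_self_of_orderOf_eq_two hos, one_zpow, one_mul] at hk'
      exact hne (r : G)⁻¹ (inv_mem r.2) (by rw [hk']; group)
  · obtain ⟨l', c', s', -, -, hd⟩ := H39.exists_dGen (Q : Subgroup R) Q.isPGroup' hn e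
    have hv : ∃ v ∈ (Q : Subgroup R), orderOf v = 2 ∧ v ≠ (⟨s, hs⟩ : R) ∧ Commute v (⟨s, hs⟩ : R) := by
      by_cases hsc : (⟨s, hs⟩ : R) ∈ zpowers c'
      · have hsz : (⟨s, hs⟩ : R) = c' ^ l' := by
          refine (hd.sq_one_cases hsc (Subtype.ext ?_)).resolve_left fun e1 => ?_
          · exact H39.mul_self_of_orderOf_eq_two hos
          · have e2 : s = 1 := congrArg Subtype.val e1
            rw [e2, orderOf_one] at hos
            omega
        refine ⟨s', hd.mem_s, hd.os, fun e1 => hd.out (e1 ▸ hsc), ?_⟩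
        rw [hsz]
        exact hd.z_central hd.mem_s
      · obtain ⟨i, hi⟩ := hd.out_form hsQ hsc
        refine ⟨c' ^ l', hd.z_mem, hd.z_order, fun e1 => hsc (e1 ▸ pow_mem (mem_zpowers c') l'), ?_⟩
        exact (hd.z_central hsQ).symm
    obtain ⟨v, -, ho, hne', hcm⟩ := hv
    exact ⟨v, v.2, by rw [Subgroup.orderOf_coe, ho], fun e1 => hne' (Subtype.ext e1),
      congrArg Subtype.val hcm⟩

/-- The fusion lemma. -/
theorem commute_of_fixed (hd : DGen (S : Subgroup G) l c s) (hD : H63.GW.SylowDType G) (hp2 : p ≠ 2)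
    (hconj : IsConj s (c ^ l)) {M F : Subgroup G} (hH : centralizer ({c ^ l} : Set G) ≤ M)
    (hsep : Cfsg.Agent.GW.Separates M (c ^ l) s (c * s)) (P : Sylow p G) (hPM : (P : Subgroup G) ≤ M)
    (hZ : normalizer (Thompson.zjay 0 (P : Subgroup G) : Set G) ≤ M)
    (hF : IsPGroup p F) (hFM : F ≤ M) (hMF : M ≤ normalizer (F : Set G))
    {x : G} (hx : x ∈ F) (hxs : Commute x s) : Commute x (c ^ l) := by
  have h2 : Fact (Nat.Prime 2) := ⟨Nat.prime_two⟩
  set t := c ^ l with ht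
  have hSC : (S : Subgroup G) ≤ centralizer ({t} : Set G) := fun g hg =>
    mem_centralizer_singleton_iff.2 (hd.z_central hg)
  have hSM : (S : Subgroup G) ≤ M := hSC.trans hH
  have hsM : s ∈ M := hSM hd.mem_s
  set R := M ⊓ centralizer ({s} : Set G) with hR
  obtain ⟨A₀⟩ : Nonempty (Sylow p ↥R) := inferInstance
  set A := (A₀ : Subgroup R).map R.subtype with hA
  have hAR : A ≤ R := map_subtype_le _
  have hAp : IsPGroup p A := A₀.isPGroup'.map _
  have hAs : ∀ a ∈ A, Commute a s := fun a ha => mem_centralizer_singleton_iff.1 (hAR ha).2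
  -- conjugate `A` into `P` and, through `t`, again into `P`
  have hinto : ∀ X : Subgroup G, IsPGroup p X → X ≤ M → ∃ m ∈ M, ∀ a ∈ X, m * a * m⁻¹ ∈ (P : Subgroup G) := by
    intro X hX hXM
    obtain ⟨m, hm⟩ := exists_conj_le_sylow (hX.comap_of_injective M.subtype M.subtype_injective)
      (P.subtype hPM)
    exact ⟨m, m.2, fun a ha => hm ⟨a, hXM ha⟩ ha⟩
  obtain ⟨m₀, hm₀, hm₀A⟩ := hinto A hAp (hAR.trans inf_le_left)
  obtain ⟨g, hg⟩ := isConj_iff.1 hconj
  have hAg : A.map (MulAut.conj g).toMonoidHom ≤ M := by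
    rintro _ ⟨a, ha, rfl⟩
    refine hH (mem_centralizer_singleton_iff.2 ?_)
    show g * a * g⁻¹ * t = t * (g * a * g⁻¹)
    refine Eq.symm ?_
    rw [← hg]
    calc g * s * g⁻¹ * (g * a * g⁻¹) = g * (s * a) * g⁻¹ := by group
      _ = g * (a * s) * g⁻¹ := by rw [(hAs a ha).eq]
      _ = _ := by group
  obtain ⟨m₁, hm₁, hm₁A⟩ := hinto _ (hAp.map _) hAg
  obtain ⟨n, hn, hna⟩ := Thompson.strongFusion_zjay hp2 (e := 0) (Or.inl rfl) G
    (not_hasSection_qd hD hp2) P ((fun a => m₀ * a * m₀⁻¹) '' (A : Set G)) (m₁ * g * m₀⁻¹)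
    (by rintro _ ⟨a, ha, rfl⟩; exact hm₀A a ha)
    (by
      rintro _ ⟨_, ⟨a, ha, rfl⟩, rfl⟩
      have := hm₁A _ ⟨a, ha, rfl⟩
      show _ ∈ (P : Subgroup G)
      simpa [mul_assoc] using this)
  -- an involution of `M` centralising `A`, conjugate to `t`
  set z := m₀⁻¹ * n⁻¹ * (m₁ * g) with hz
  have hk : ∀ a ∈ A, z * a * z⁻¹ = a := by
    intro a ha
    have h1 := hna _ ⟨a, ha, rfl⟩
    calc z * a * z⁻¹ = m₀⁻¹ * (n⁻¹ * (m₁ * g * m₀⁻¹ * (m₀ * a * m₀⁻¹) * (m₁ * g * m₀⁻¹)⁻¹) * n) * m₀ := by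
          rw [hz]; group
      _ = a := by rw [← h1]; group
  have hnM : n ∈ M := hZ hn
  set k := m₀⁻¹ * n⁻¹ * m₁ with hkdef
  have hkM : k ∈ M := mul_mem (mul_mem (inv_mem hm₀) (inv_mem hnM)) hm₁
  set w := k * t * k⁻¹ with hwdef
  have hwM : w ∈ M :=
    mul_mem (mul_mem hkM (hH (mem_centralizer_singleton_iff.2 rfl))) (inv_mem hkM)
  have hwA : ∀ a ∈ A, Commute w a := by
    intro a ha
    have e : w = z * s * z⁻¹ := by rw [hwdef, ← hg, hkdef, hz]; group
    show w * a = a * w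
    rw [e]
    conv_lhs => rw [← hk a ha]
    conv_rhs => rw [← hk a ha]
    calc z * s * z⁻¹ * (z * a * z⁻¹) = z * (s * a) * z⁻¹ := by group
      _ = z * (a * s) * z⁻¹ := by rw [(hAs a ha).eq]
      _ = _ := by group
  set K := M ⊓ centralizer (A : Set G) with hK
  have hsK : s ∈ K := ⟨hsM, mem_centralizer_iff.2 fun a ha => (hAs a ha).eq⟩
  have hwK : w ∈ K := ⟨hwM, mem_centralizer_iff.2 fun a ha => ((hwA a ha).eq).symm⟩
  have how : orderOf w = 2 := by rw [hwdef, orderOf_conj, hd.z_order]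
  obtain ⟨v, hv, hov, hvs, hvc⟩ := exists_commuting_involution hD hsK hd.os hwK how (fun r hr e => by
    refine (hsep (k⁻¹ * r) (mul_mem (inv_mem hkM) hr.1)).1 ?_
    calc k⁻¹ * r * s * (k⁻¹ * r)⁻¹ = k⁻¹ * (r * s * r⁻¹) * k := by group
      _ = t := by rw [e, hwdef]; group)
  obtain ⟨U, hU, hUm⟩ := H39.klein_mk hd.os hov hvs.symm hvc.eq.symm
  have hUM : U ≤ M := fun y hy => by
    rcases (hUm y).1 hy with rfl | rfl | rfl | rfl
    exacts [one_mem _, hsM, hv.1, mul_mem hsM hv.1]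
  -- move `⟨s, v⟩` into `S` fixing `s`
  obtain ⟨m, hm⟩ := exists_conj_le_sylow
    ((IsPGroup.of_card (n := 2) hU.card_four).comap_of_injective M.subtype M.subtype_injective)
    (S.subtype hSM)
  have hmS : ∀ y ∈ U, (m : G) * y * (m : G)⁻¹ ∈ (S : Subgroup G) := fun y hy =>
    hm ⟨y, hUM hy⟩ hy
  have hsU : s ∈ U := (hUm s).2 (Or.inr (Or.inl rfl))
  have hvU : v ∈ U := (hUm v).2 (Or.inr (Or.inr (Or.inl rfl)))
  obtain ⟨m', hm', hm's, hm'v⟩ : ∃ m' ∈ M, m' * s * m'⁻¹ = s ∧ m' * v * m'⁻¹ ∈ (S : Subgroup G) := by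
    have hout : (m : G) * s * (m : G)⁻¹ ∉ zpowers c := by
      intro hmem
      have hmm : (m : G) * s * (m : G)⁻¹ * ((m : G) * s * (m : G)⁻¹) = 1 := by
        rw [show (m : G) * s * (m : G)⁻¹ * ((m : G) * s * (m : G)⁻¹) = (m : G) * (s * s) * (m : G)⁻¹ by group,
          H39.mul_self_of_orderOf_eq_two hd.os]
        group
      rcases hd.sq_one_cases hmem hmm with e | e
      · have := orderOf_conj (m : G) s
        rw [e, orderOf_one, hd.os] at this
        omega
      · exact (hsep m m.2).1 e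
    obtain ⟨i, hi⟩ := hd.out_form (hmS s hsU) hout
    have hcM : ∀ j : ℤ, c ^ j ∈ M := fun j => hSM (hd.zpow_mem j)
    have hmov : ∀ j : ℤ, c ^ j * (m : G) * s * (c ^ j * (m : G))⁻¹ = c ^ (i + 2 * j) * s := by
      intro j
      rw [← hd.conj_reflection i j, ← hi]
      group
    rcases Int.even_or_odd i with ⟨j, rfl⟩ | ⟨j, rfl⟩
    · refine ⟨c ^ (-j) * m, mul_mem (hcM _) m.2, ?_, ?_⟩
      · rw [hmov, show j + j + 2 * -j = 0 by ring, zpow_zero, one_mul]
      · rw [show c ^ (-j) * (m : G) * v * (c ^ (-j) * (m : G))⁻¹ =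
          c ^ (-j) * ((m : G) * v * (m : G)⁻¹) * (c ^ (-j))⁻¹ by group]
        exact mul_mem (mul_mem (hd.zpow_mem _) (hmS v hvU)) (inv_mem (hd.zpow_mem _))
    · refine absurd ?_ (hsep (c ^ (-j) * m) (mul_mem (hcM _) m.2)).2
      rw [hmov, show 2 * j + 1 + 2 * -j = 1 by ring, zpow_one]
  -- the image of `A` is centralised by `t`
  set v' := m' * v * m'⁻¹ with hv'
  have hv's : Commute v' s := by
    show v' * s = s * v'
    rw [hv']
    conv_lhs => rw [← hm's]
    conv_rhs => rw [← hm's]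
    calc m' * v * m'⁻¹ * (m' * s * m'⁻¹) = m' * (v * s) * m'⁻¹ := by group
      _ = m' * (s * v) * m'⁻¹ := by rw [hvc.eq]
      _ = _ := by group
  have hv'cases : v' = t ∨ v' = t * s := by
    have ho' : orderOf v' = 2 := by rw [hv', orderOf_conj, hov]
    by_cases hvc' : v' ∈ zpowers c
    · refine Or.inl ((hd.sq_one_cases hvc' (H39.mul_self_of_orderOf_eq_two ho')).resolve_left fun e => ?_)
      rw [e, orderOf_one] at ho'
      omega
    · obtain ⟨i, hi⟩ := hd.out_form hm'v hvc'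
      have hss := H39.mul_self_of_orderOf_eq_two hd.os
      have hii : c ^ i * c ^ i = 1 := by
        have e1 := hd.out_conj 0 i
        rw [zpow_zero, one_mul, H39.inv_eq_of_orderOf_eq_two hd.os] at e1
        have e3 : c ^ i * s * s = s * (c ^ i * s) := by rw [← hi]; exact hv's.eq
        rw [mul_assoc, hss, mul_one, ← mul_assoc, e1, zpow_neg] at e3
        exact mul_eq_one_iff_eq_inv.2 e3
      rcases hd.sq_one_cases (zpow_mem (mem_zpowers c) i) hii with e | e
      · exfalso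
        rw [e, one_mul] at hi
        refine hvs ?_
        calc v = m'⁻¹ * v' * m' := by rw [hv']; group
          _ = m'⁻¹ * s * m' := by rw [hi]
          _ = m'⁻¹ * (m' * s * m'⁻¹) * m' := by rw [hm's]
          _ = s := by group
      · exact Or.inr (by rw [hi, e])
  have hts : ∀ a ∈ A, Commute (m' * a * m'⁻¹) t := by
    intro a ha
    have hcs : Commute (m' * a * m'⁻¹) s := by
      rw [← hm's]
      show m' * a * m'⁻¹ * (m' * s * m'⁻¹) = m' * s * m'⁻¹ * (m' * a * m'⁻¹)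
      calc m' * a * m'⁻¹ * (m' * s * m'⁻¹) = m' * (a * s) * m'⁻¹ := by group
        _ = m' * (s * a) * m'⁻¹ := by rw [(hAs a ha).eq]
        _ = _ := by group
    have hva : a * v = v * a := mem_centralizer_iff.1 hv.2 a ha
    have hcv : Commute (m' * a * m'⁻¹) v' := by
      show m' * a * m'⁻¹ * (m' * v * m'⁻¹) = m' * v * m'⁻¹ * (m' * a * m'⁻¹)
      calc m' * a * m'⁻¹ * (m' * v * m'⁻¹) = m' * (a * v) * m'⁻¹ := by group
        _ = m' * (v * a) * m'⁻¹ := by rw [hva]
        _ = _ := by group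
    rcases hv'cases with e | e
    · rwa [e] at hcv
    · rw [e] at hcv
      have := hcv.mul_right hcs
      rwa [mul_assoc t, H39.mul_self_of_orderOf_eq_two hd.os, mul_one] at this
  -- the fixed part of `F` lies in every Sylow subgroup of `R`
  have hm'R : m' ∈ R := ⟨hm', mem_centralizer_singleton_iff.2
    (mul_inv_eq_iff_eq_mul.1 hm's)⟩
  set F₀ := F ⊓ centralizer ({s} : Set G) with hF₀
  have hF₀R : F₀ ≤ R := inf_le_inf_right _ hFM
  have hRF₀ : R ≤ normalizer (F₀ : Set G) :=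
    (le_inf (inf_le_left.trans hMF) (inf_le_right.trans le_normalizer)).trans
      inf_normalizer_le_normalizer_inf
  have hF₀A : F₀ ≤ A := by
    have hn' : (F₀.subgroupOf R).Normal := normal_subgroupOf_of_le_normalizer hRF₀
    have h1 : F₀.subgroupOf R ≤ (A₀ : Subgroup R) := (Cores.le_pCore (hN := hn')
      ((hF.to_le inf_le_left).comap_of_injective R.subtype R.subtype_injective)).trans
        (Cores.pCore_le_sylow A₀)
    rw [← map_subgroupOf_eq_of_le hF₀R]
    exact map_mono h1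
  have hx' : m'⁻¹ * x * m' ∈ F₀ :=
    Coprime.conj_mem' (hRF₀ hm'R) ⟨hx, mem_centralizer_singleton_iff.2 hxs.eq⟩
  have := hts _ (hF₀A hx')
  rwa [show m' * (m'⁻¹ * x * m') * m'⁻¹ = x by group] at this

end Cfsg.Agent.H60.GW
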