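import Cfsg.Agent.Thompson.PStable

/-!
# GW programme: `Z(J(S))` over an odd core

A form of the ZJ-theorem needing no constraint: if a normal `p`-subgroup `B` contains `S ⊓ O(G)`
and its centralizer has odd order, then `Z(J(S))` lies in `B` and is normal.
-/

set_option autoImplicit false

namespace Cfsg.Agent.H60.GW

open Subgroup Cfsg.Agent Cfsg.Agent.Thompson

universe u

variable {G : Type u} [Group G] [Finite G] {p : ℕ} [Fact p.Prime]

theorem zjay_normal_of_oddCore (hp : p ≠ 2) (hqd : ¬ HasSection (qd p) G) (S : Sylow p G)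
    (B : Subgroup G) [hBn : B.Normal] (hB : IsPGroup p B)
    (hC : centralizer (B : Set G) ≤ oddCore G) (hS : (S : Subgroup G) ⊓ oddCore G ≤ B) :
    (zjay 0 (S : Subgroup G)).Normal ∧ zjay 0 (S : Subgroup G) ≤ B := by
  have hst := stableOnNormal_of_qd_free hp hqd
  have hBS : B ≤ (S : Subgroup G) :=
    (Cores.le_pCore hB).trans (Cores.pCore_le_sylow S)
  set Z := zjay 0 (S : Subgroup G) with hZ
  have hq : ⁅⁅B, Z⁆, Z⁆ = ⊥ := by
    refine eq_bot_iff.mpr (le_trans (commutator_mono (K₁ := Z) ?_ (le_refl Z))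
      (commutator_eq_bot_iff_le_centralizer.mpr ?_).le)
    · exact commutator_le.mpr fun x hx z hz => by
        rw [commutatorElement_def]
        exact mul_mem ((Subgroup.mem_normalizer_iff.mp (le_normalizer_zjay 0 _ (hBS hx)) z).mp hz)
          (Z.inv_mem hz)
    · have := isMulCommutative_zjay (G := G) 0 (S : Subgroup G)
      exact le_centralizer Z
  have hodd : Odd (Nat.card (stabPre p B)) := by
    have h1 := card_eq_card_quotient_mul_card_subgroup
      ((centralizer (B : Set G)).subgroupOf (stabPre p B))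
    rw [h1]
    refine Odd.mul ?_ ?_
    · have h2 : IsPGroup p ((stabPre p B) ⧸ (centralizer (B : Set G)).subgroupOf (stabPre p B)) := by
        rintro ⟨⟨x, hx⟩⟩
        obtain ⟨k, hk⟩ := Cores.pCore_isPGroup (p := p) (G := G ⧸ centralizer (B : Set G))
          ⟨QuotientGroup.mk x, hx⟩
        refine ⟨k, ?_⟩
        have hk' := congrArg Subtype.val hk
        change (QuotientGroup.mk (x ^ p ^ k) : G ⧸ centralizer (B : Set G)) = 1 at hk'
        exact (QuotientGroup.eq_one_iff (N := (centralizer (B : Set G)).subgroupOf (stabPre p B))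
          ((⟨x, hx⟩ : stabPre p B) ^ p ^ k)).mpr (mem_subgroupOf.mpr ((QuotientGroup.eq_one_iff _).mp hk'))
      obtain ⟨k, hk⟩ := h2.exists_card_eq
      rw [hk]
      exact ((Fact.out : p.Prime).odd_of_ne_two hp).pow
    · rw [Nat.card_congr (subgroupOfEquivOfLe (centralizer_le_stabPre B)).toEquiv]
      exact Odd.of_dvd_nat Cores.odd_card_oddCore (card_dvd_of_le hC)
  have hZB : Z ≤ B := fun z hz =>
    hS ⟨zjay_le hz, Cores.le_oddCore hodd (le_stabPre hst hB hq hz)⟩
  have h := inf_normal hp (.inl rfl) hst S Z zjay_le (isMulCommutative_zjay _ _)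
    (le_normalizer_zjay _ _) (normalizer_jay_le_normalizer_zjay _ _) inf_le_right
    (fun B _ _ _ hBZ _ A hA => hBZ.trans (zjay_zero_le hA)) B hB
  rw [inf_eq_left.mpr hZB] at h
  exact ⟨h, hZB⟩

end Cfsg.Agent.H60.GW
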