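import Cfsg.Agent.H60.GW.MaxInv
import Cfsg.Agent.H60.GW.ZJOdd

/-!
# GW programme, case (S): the maximal intersection lemma

`NN` is a family of maximal `T`-invariant `p`-subgroups of `G` that is closed at the normalizers of
`Z(J(P))`.  If every pair of non-conjugate maximal invariant `p`-subgroups of a proper subgroup has an
obstruction of `L₂(q)` shape, then no member of `NN` meets an outside maximal invariant `p`-subgroup
in a good subgroup (see `notes/gw_v2_S.md`).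
-/

set_option autoImplicit false
set_option linter.unusedSectionVars false

namespace Cfsg.Agent.H60.GW

open Subgroup Cfsg.Agent

universe u

variable {G : Type u} [Group G]

/-- The data of an obstruction to the conjugacy of two maximal invariant `p`-subgroups of `Y`. -/
structure Obstruction (p : ℕ) (T Y Q₁ Q₂ : Subgroup G) : Type u where
  /-- The subgroup carrying the `L₂(q)` section. -/
  Y0 : Subgroup G
  le : Y0 ≤ Y
  invariant : T ≤ normalizer (Y0 : Set G)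
  le₁ : Q₁ ≤ Y0
  le₂ : Q₂ ≤ Y0
  sylow : ∃ S : Sylow p ↥Y0, (S : Subgroup ↥Y0).map Y0.subtype = Q₁
  comm : ∀ R : Subgroup G, InvP p T R → R ≤ Q₁ ⊓ Q₂ → ⁅R, T⁆ ≤ core Y0
  cases_on_normal : ∀ B : Subgroup G, IsPGroup p B → B ≤ Y0 → Y0 ≤ normalizer (B : Set G) →
    Y0 ⊓ centralizer (B : Set G) ≤ core Y0 ∨ T ≤ centralizer (B : Set G) ∨
      ∃ a ∈ T, a ≠ 1 ∧ a ∈ centralizer (B : Set G) ∧
        ∃ l ∈ normalizer (T : Set G), l ∈ centralizer ({a} : Set G) ∧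
          Q₁.map (MulAut.conj l).toMonoidHom = Q₂

variable [Finite G] {p : ℕ} [hp : Fact p.Prime] {T : Subgroup G}

/-- The subgroups over which two sides are separated above `R`. -/
structure Split (p : ℕ) (T : Subgroup G) (NN : Set (Subgroup G)) (R Y Q₁ Q₂ : Subgroup G) : Prop where
  invariant : T ≤ normalizer (Y : Set G)
  ne_top : Y ≠ ⊤
  max₁ : IsMaxInv p T Y Q₁
  max₂ : IsMaxInv p T Y Q₂
  lt₁ : R < Q₁
  lt₂ : R < Q₂
  inside : ∃ P ∈ NN, Q₁ ≤ P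
  outside : ∃ P, IsMaxInv p T ⊤ P ∧ P ∉ NN ∧ Q₂ ≤ P

/-- No invariant subgroup properly above `R` lies on both sides. -/
def Separates (p : ℕ) (T : Subgroup G) (NN : Set (Subgroup G)) (R : Subgroup G) : Prop :=
  ∀ S : Subgroup G, InvP p T S → R < S → ∀ P ∈ NN, ∀ P', IsMaxInv p T ⊤ P' → P' ∉ NN →
    S ≤ P → S ≤ P' → False

variable {NN : Set (Subgroup G)} {R : Subgroup G}

theorem Split.not_conj (hconj : ∀ P ∈ NN, ∀ c ∈ centralizer (T : Set G),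
      P.map (MulAut.conj c).toMonoidHom ∈ NN)
    (hsep : Separates p T NN R) {Y Q₁ Q₂ : Subgroup G} (h : Split p T NN R Y Q₁ Q₂) {c : G}
    (hc : c ∈ centralizer (T : Set G)) : Q₁.map (MulAut.conj c).toMonoidHom ≠ Q₂ := by
  intro he
  obtain ⟨P, hP, hle⟩ := h.inside
  obtain ⟨P', hP'm, hP', hle'⟩ := h.outside
  exact hsep Q₂ h.max₂.2.1 h.lt₂ _ (hconj P hP c hc) P' hP'm hP' (he ▸ map_mono hle) hle'

/-- At an obstruction, `R` meets the core in a Sylow subgroup, common to both sides. -/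
theorem inf_core_eq (hT : IsPGroup 2 T) (hp2 : p ≠ 2)
    (hconj : ∀ P ∈ NN, ∀ c ∈ centralizer (T : Set G), P.map (MulAut.conj c).toMonoidHom ∈ NN)
    (hR : InvP p T R) (hsep : Separates p T NN R) {Y Q₁ Q₂ : Subgroup G} (h : Split p T NN R Y Q₁ Q₂) :
    Q₁ ⊓ core Y = R ⊓ core Y ∧ Q₂ ⊓ core Y = R ⊓ core Y := by
  set O := core Y with hOdef
  have hTO : T ≤ normalizer (O : Set G) := h.invariant.trans (normalizer_le_normalizer_core Y)
  have hO := odd_card_core Y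
  have hcard : ∀ Q, IsMaxInv p T Y Q →
      Nat.card (Q ⊓ O : Subgroup G) = p ^ (Nat.card O).factorization p := fun Q hQ =>
    card_inf_eq hT hp2 hQ (core_le Y) hO (hQ.1.trans (le_normalizer_core Y)) hTO
  have hR1 : R ≤ Q₁ := h.lt₁.le
  have hR2 : R ≤ Q₂ := h.lt₂.le
  have hcases : ∀ Q, IsMaxInv p T Y Q → R ≤ Q → Q ⊓ O ≤ R → Q ⊓ O = R ⊓ O := fun Q _ hRQ hQR =>
    le_antisymm (le_inf hQR inf_le_right) (inf_le_inf_right _ hRQ)
  have hother : ∀ Q Q', IsMaxInv p T Y Q → IsMaxInv p T Y Q' → R ≤ Q → R ≤ Q' → Q ⊓ O ≤ R →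
      Q' ⊓ O = R ⊓ O := by
    intro Q Q' hQ hQ' hRQ hRQ' hQR
    refine (eq_of_le_of_card_ge (inf_le_inf_right _ hRQ') ?_).symm
    rw [hcard Q' hQ', ← hcard Q hQ, hcases Q hQ hRQ hQR]
  by_cases hQR : Q₁ ⊓ O ≤ R
  · exact ⟨hcases Q₁ h.max₁ hR1 hQR, hother Q₁ Q₂ h.max₁ h.max₂ hR1 hR2 hQR⟩
  by_cases hQR' : Q₂ ⊓ O ≤ R
  · exact absurd ((hother Q₂ Q₁ h.max₂ h.max₁ hR2 hR1 hQR').le.trans inf_le_left) hQR
  exfalso
  have hRO : R ≤ normalizer (O : Set G) := (hR1.trans h.max₁.1).trans (le_normalizer_core Y)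
  have hK : T ≤ normalizer ((O ⊔ R : Subgroup G) : Set G) :=
    (le_inf hTO hR.2).trans (normalizer_inf_normalizer_le_normalizer_sup O R)
  have hKodd := odd_card_sup hp2 hO hR.1 hRO
  have hcop := coprime_card_of_odd hT hKodd
  have hsol := isSolvable_of_isPGroup_two hT
  have key : ∀ Q, IsMaxInv p T Y Q → R ≤ Q → ¬ Q ⊓ O ≤ R → ∃ S : Sylow p ↥(O ⊔ R),
      R < ((Q ⊓ O) ⊔ R) ∧ InvP p T ((Q ⊓ O) ⊔ R) ∧
      (Q ⊓ O) ⊔ R ≤ Q ∧
      (Q ⊓ O) ⊔ R ≤ (S : Subgroup ↥(O ⊔ R)).map (O ⊔ R).subtype ∧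
      T ≤ normalizer (((S : Subgroup ↥(O ⊔ R)).map (O ⊔ R).subtype : Subgroup G) : Set G) := by
    intro Q hQ hRQ hnot
    have hle : (Q ⊓ O) ⊔ R ≤ Q := sup_le inf_le_left hRQ
    have hinv : InvP p T ((Q ⊓ O) ⊔ R) := by
      refine ⟨hQ.2.1.1.to_le hle, ?_⟩
      exact (le_inf (hQ.2.1.inf hTO).2 hR.2).trans (normalizer_inf_normalizer_le_normalizer_sup _ R)
    obtain ⟨S, hS, hST⟩ := Coprime.exists_invariant_sylow_ge hK hcop (Or.inl hsol) p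
      (sup_le_sup_right inf_le_right R) hinv.1 hinv.2
    exact ⟨S, lt_of_le_of_ne le_sup_right fun he => hnot (he ▸ le_sup_left), hinv, hle, hS, hST⟩
  obtain ⟨S₁, hlt₁, hinv₁, hle₁, hS₁, hST₁⟩ := key Q₁ h.max₁ hR1 hQR
  obtain ⟨S₂, hlt₂, hinv₂, hle₂, hS₂, hST₂⟩ := key Q₂ h.max₂ hR2 hQR'
  obtain ⟨P, hP, hleP⟩ := h.inside
  obtain ⟨P', hP'm, hP', hleP'⟩ := h.outside
  obtain ⟨c, hc, hcS⟩ := Coprime.exists_conj_invariant_sylow hK hcop (Or.inl hsol) p S₁ S₂ hST₁ hST₂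
  have hIS₁ : InvP p T ((S₁ : Subgroup ↥(O ⊔ R)).map (O ⊔ R).subtype) := ⟨S₁.isPGroup'.map _, hST₁⟩
  obtain ⟨P₁, hP₁, hSP₁⟩ := exists_isMaxInv le_top hIS₁
  have hP₁N : P₁ ∈ NN := by
    by_contra hn
    exact hsep _ hinv₁ hlt₁ P hP P₁ hP₁ hn (hle₁.trans hleP) (hS₁.trans hSP₁)
  have hmap : ((S₁ : Subgroup ↥(O ⊔ R)).map (O ⊔ R).subtype).map (MulAut.conj (c : G)).toMonoidHom =
      (S₂ : Subgroup ↥(O ⊔ R)).map (O ⊔ R).subtype := by
    rw [← hcS]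
    change _ = ((S₁ : Subgroup ↥(O ⊔ R)).map (MulAut.conj c).toMonoidHom).map (O ⊔ R).subtype
    rw [Subgroup.map_map, Subgroup.map_map]
    rfl
  exact hsep _ hinv₂ hlt₂ _ (hconj P₁ hP₁N c hc) P' hP'm hP'
    (hS₂.trans (hmap ▸ map_mono hSP₁)) (hle₂.trans hleP')

/-- `Z(J(Q))` is normal in a subgroup when a normal `p`-subgroup carries the core part. -/
theorem le_normalizer_zjay (hp2 : p ≠ 2) (hqd : ¬ Thompson.HasSection (qd p) G) {Y Q B : Subgroup G}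
    (hQ : ∃ S : Sylow p ↥Y, (S : Subgroup ↥Y).map Y.subtype = Q) (hB : IsPGroup p B) (hBY : B ≤ Y)
    (hYB : Y ≤ normalizer (B : Set G)) (hC : Y ⊓ centralizer (B : Set G) ≤ core Y)
    (hQB : Q ⊓ core Y ≤ B) : Y ≤ normalizer (Thompson.zjay 0 Q : Set G) := by
  obtain ⟨S, rfl⟩ := hQ
  have : (B.subgroupOf Y).Normal := normal_subgroupOf_of_le_normalizer hYB
  have h := zjay_normal_of_oddCore hp2 (fun h' => hqd (h'.of_injective Y.subtype_injective)) S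
    (B.subgroupOf Y) hB.comap_subtype ?_ ?_
  · have := h.1
    rw [Thompson.zjay_map Y.subtype Y.subtype_injective]
    exact le_normalizer_map_subtype _
  · intro x hx
    have hx' : (x : G) ∈ core Y := hC ⟨x.2, mem_centralizer_iff.2 fun b hb =>
      congrArg Subtype.val (mem_centralizer_iff.1 hx ⟨b, hBY hb⟩ hb)⟩
    obtain ⟨y, hy, hyx⟩ := hx'
    rwa [← show y = x from Subtype.ext hyx]
  · rintro x ⟨hx, hx'⟩
    exact hQB ⟨mem_map_of_mem _ hx, mem_map_of_mem _ hx'⟩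

variable (hT : IsPGroup 2 T) (hp2 : p ≠ 2) (hqd : ¬ Thompson.HasSection (qd p) G)
  (hNN : ∀ P ∈ NN, IsMaxInv p T ⊤ P)
  (hconj : ∀ P ∈ NN, ∀ c ∈ centralizer (T : Set G), P.map (MulAut.conj c).toMonoidHom ∈ NN)
  (hclose : ∀ P ∈ NN, ∀ Q, InvP p T Q → Q ≤ normalizer (Thompson.zjay 0 P : Set G) →
    ∃ P' ∈ NN, Q ≤ P')
  (hlocal : ∀ S : Subgroup G, IsPGroup p S → S ≠ ⊥ → normalizer (S : Set G) ≠ ⊤)
  (hshape : ∀ Y Q₁ Q₂ : Subgroup G, T ≤ normalizer (Y : Set G) → Y ≠ ⊤ →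
    IsMaxInv p T Y Q₁ → IsMaxInv p T Y Q₂ →
    (∀ c ∈ Y ⊓ centralizer (T : Set G), Q₁.map (MulAut.conj c).toMonoidHom ≠ Q₂) →
    Nonempty (Obstruction p T Y Q₁ Q₂))
  (good : Subgroup G → Prop)
  (hgoodT : ∀ R, good R → ¬ T ≤ centralizer ((⁅R, T⁆ : Subgroup G) : Set G))
  (hgoodA : ∀ R, good R → ∀ a ∈ T, a ≠ 1 → a ∈ centralizer ((⁅R, T⁆ : Subgroup G) : Set G) →
    ∀ l ∈ normalizer (T : Set G), l ∈ centralizer ({a} : Set G) →
      ∀ P ∈ NN, P.map (MulAut.conj l).toMonoidHom ∈ NN)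
  (hgoodM : ∀ R R', R ≤ R' → InvP p T R' → good R → good R')

include hT hp2 hqd hNN hconj hclose hlocal hshape hgoodT hgoodA hgoodM

/-- The maximal intersection lemma. -/
theorem not_good_inf {P P' : Subgroup G} (hP : P ∈ NN) (hP' : IsMaxInv p T ⊤ P') (hP'N : P' ∉ NN) :
    ¬ good (P ⊓ P') := by
  intro hg0
  classical
  obtain ⟨⟨A, A'⟩, ⟨hA, hA'm, hA', hgA⟩, hAmax⟩ := Set.exists_max_image
    {q : Subgroup G × Subgroup G | q.1 ∈ NN ∧ IsMaxInv p T ⊤ q.2 ∧ q.2 ∉ NN ∧ good (q.1 ⊓ q.2)}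
    (fun q => Nat.card (q.1 ⊓ q.2 : Subgroup G)) (Set.toFinite _) ⟨(P, P'), hP, hP', hP'N, hg0⟩
  set R := A ⊓ A' with hRdef
  have hR : InvP p T R := (hNN A hA).2.1.inf hA'm.2.1.2
  have hsep : Separates p T NN R := by
    intro S hS hlt B hB B' hB'm hB' hSB hSB'
    have hI : InvP p T (B ⊓ B') := (hNN B hB).2.1.inf hB'm.2.1.2
    have hlt' : R < B ⊓ B' := hlt.trans_le (le_inf hSB hSB')
    have h1 := hAmax (B, B') ⟨hB, hB'm, hB', hgoodM R _ hlt'.le hI hgA⟩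
    exact absurd (eq_of_le_of_card_ge hlt'.le h1) hlt'.ne
  have hRne : R ≠ ⊥ := by
    intro h0
    refine hgoodT R hgA fun a _ => mem_centralizer_iff.2 fun x hx => ?_
    rw [h0, commutator_bot_left, SetLike.mem_coe, mem_bot] at hx
    rw [hx, one_mul, mul_one]
  have side₁ : ∀ {Q S : Subgroup G}, InvP p T S → R < S → S ≤ Q → InvP p T Q →
      (∃ B ∈ NN, S ≤ B) → ∃ B ∈ NN, Q ≤ B := by
    rintro Q S hS hlt hSQ hQ ⟨B, hB, hSB⟩
    obtain ⟨B', hB'm, hQB'⟩ := exists_isMaxInv le_top hQ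
    by_contra hno
    exact hsep S hS hlt B hB B' hB'm (fun h => hno ⟨B', h, hQB'⟩) hSB (hSQ.trans hQB')
  have side₂ : ∀ {Q S : Subgroup G}, InvP p T S → R < S → S ≤ Q → InvP p T Q →
      (∃ B, IsMaxInv p T ⊤ B ∧ B ∉ NN ∧ S ≤ B) → ∃ B, IsMaxInv p T ⊤ B ∧ B ∉ NN ∧ Q ≤ B := by
    rintro Q S hS hlt hSQ hQ ⟨B, hBm, hB, hSB⟩
    obtain ⟨B', hB'm, hQB'⟩ := exists_isMaxInv le_top hQ
    exact ⟨B', hB'm, fun h => hsep S hS hlt B' h B hBm hB (hSQ.trans hQB') hSB, hQB'⟩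
  -- the normalizer of `R` is split
  have hup : ∀ {B : Subgroup G}, InvP p T B → R < B →
      InvP p T (B ⊓ normalizer (R : Set G)) ∧ R < B ⊓ normalizer (R : Set G) := by
    intro B hB hlt
    refine ⟨hB.inf (hR.2.trans le_normalizer), lt_of_le_of_ne (le_inf hlt.le le_normalizer) ?_⟩
    intro he
    have hnil : Group.IsNilpotent ↥B := hB.1.isNilpotent
    have hlt' : R.subgroupOf B < ⊤ := by
      rw [lt_top_iff_ne_top, Ne, subgroupOf_eq_top]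
      exact fun h => hlt.not_ge h
    obtain ⟨x, hx, hx'⟩ := SetLike.exists_of_lt (Group.normalizerCondition_of_isNilpotent _ hlt')
    refine hx' ?_
    rw [← subgroupOf_normalizer_eq hlt.le, mem_subgroupOf] at hx
    have hmem : (x : G) ∈ B ⊓ normalizer (R : Set G) := ⟨x.2, hx⟩
    rw [← he] at hmem
    exact mem_subgroupOf.2 hmem
  have hRA : R < A := lt_of_le_of_ne inf_le_left fun h =>
    hA' (((hNN A hA).2.2 A' le_top hA'm.2.1 (h ▸ inf_le_right)) ▸ hA)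
  have hRA' : R < A' := lt_of_le_of_ne inf_le_right fun h =>
    hA' ((hA'm.2.2 A le_top (hNN A hA).2.1 (h ▸ inf_le_left)) ▸ hA)
  have hstart : ∃ Y Q₁ Q₂, Split p T NN R Y Q₁ Q₂ := by
    obtain ⟨hI₁, hlt₁⟩ := hup (hNN A hA).2.1 hRA
    obtain ⟨hI₂, hlt₂⟩ := hup hA'm.2.1 hRA'
    obtain ⟨Q₁, hQ₁, hle₁⟩ := exists_isMaxInv (Y := normalizer (R : Set G)) inf_le_right hI₁
    obtain ⟨Q₂, hQ₂, hle₂⟩ := exists_isMaxInv (Y := normalizer (R : Set G)) inf_le_right hI₂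
    exact ⟨_, Q₁, Q₂, hR.2.trans le_normalizer, hlocal R hR.1 hRne, hQ₁, hQ₂, hlt₁.trans_le hle₁,
      hlt₂.trans_le hle₂, side₁ hI₁ hlt₁ hle₁ hQ₁.2.1 ⟨A, hA, inf_le_left⟩,
      side₂ hI₂ hlt₂ hle₂ hQ₂.2.1 ⟨A', hA'm, hA', inf_le_left⟩⟩
  have hobs : ∀ {Y Q₁ Q₂}, Split p T NN R Y Q₁ Q₂ → ∃ o : Obstruction p T Y Q₁ Q₂,
      Split p T NN R o.Y0 Q₁ Q₂ := by
    intro Y Q₁ Q₂ h
    obtain ⟨o⟩ := hshape Y Q₁ Q₂ h.invariant h.ne_top h.max₁ h.max₂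
      fun c hc => h.not_conj hconj hsep hc.2
    exact ⟨o, o.invariant, fun he => h.ne_top (top_le_iff.1 (he ▸ o.le)), h.max₁.of_le o.le o.le₁,
      h.max₂.of_le o.le o.le₂, h.lt₁, h.lt₂, h.inside, h.outside⟩
  -- maximise first the first side, then the core part of `R`
  let W : Subgroup G × Subgroup G × Subgroup G → Prop := fun w => Split p T NN R w.1 w.2.1 w.2.2
  obtain ⟨w0, hw0, hw0max⟩ : ∃ w0, W w0 ∧ ∀ w, W w → Nat.card w.2.1 ≤ Nat.card w0.2.1 := by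
    obtain ⟨Y, Q₁, Q₂, h⟩ := hstart
    exact Set.exists_max_image {w | W w} (fun w => Nat.card w.2.1) (Set.toFinite _) ⟨(Y, Q₁, Q₂), h⟩
  let V : Subgroup G × Subgroup G × Subgroup G → Prop := fun w => W w ∧ Nat.card w0.2.1 ≤ Nat.card w.2.1 ∧
    ∃ Y, ∃ o : Obstruction p T Y w.2.1 w.2.2, o.Y0 = w.1
  obtain ⟨⟨Y, Q₁, Q₂⟩, ⟨hsplit, hQcard, -⟩, hVmax⟩ :
      ∃ w1, V w1 ∧ ∀ w, V w → Nat.card (R ⊓ core w.1 : Subgroup G) ≤
        Nat.card (R ⊓ core w1.1 : Subgroup G) := by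
    obtain ⟨o, ho⟩ := hobs hw0
    exact Set.exists_max_image {w | V w} (fun w => Nat.card (R ⊓ core w.1 : Subgroup G))
      (Set.toFinite _) ⟨(o.Y0, w0.2.1, w0.2.2), ho, le_rfl, _, o, rfl⟩
  dsimp only [V, W] at hsplit hQcard hVmax
  change Split p T NN R Y Q₁ Q₂ at hsplit
  change Nat.card w0.2.1 ≤ Nat.card Q₁ at hQcard
  set B := R ⊓ core Y with hBdef
  obtain ⟨hB₁, hB₂⟩ := inf_core_eq hT hp2 hconj hR hsep hsplit
  have hBI : InvP p T B := hR.inf (hsplit.invariant.trans (normalizer_le_normalizer_core _))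
  have hQB : ∀ {Q}, Q ≤ Y → Q ⊓ core Y = B → Q ≤ normalizer (B : Set G) := fun {Q} hQ he =>
    he ▸ (le_inf le_normalizer (hQ.trans (le_normalizer_core _))).trans inf_normalizer_le_normalizer_inf
  set Y' := Y ⊓ normalizer (B : Set G) with hY'
  have hsplit' : Split p T NN R Y' Q₁ Q₂ :=
    ⟨(le_inf hsplit.invariant (hBI.2.trans le_normalizer)).trans inf_normalizer_le_normalizer_inf,
      fun he => hsplit.ne_top (top_le_iff.1 (he ▸ inf_le_left)),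
      hsplit.max₁.of_le inf_le_left (le_inf hsplit.max₁.1 (hQB hsplit.max₁.1 hB₁)),
      hsplit.max₂.of_le inf_le_left (le_inf hsplit.max₂.1 (hQB hsplit.max₂.1 hB₂)),
      hsplit.lt₁, hsplit.lt₂, hsplit.inside, hsplit.outside⟩
  obtain ⟨o, ho⟩ := hobs hsplit'
  have hBo : B ≤ R ⊓ core o.Y0 := by
    refine le_inf inf_le_left ?_
    have hBY : B ≤ o.Y0 := (inf_le_left.trans hsplit.lt₁.le).trans o.le₁
    exact le_core hBY (o.le.trans inf_le_right)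
      (Odd.of_dvd_nat (odd_card_core Y) (card_dvd_of_le inf_le_right))
  have hBeq : R ⊓ core o.Y0 = B :=
    (eq_of_le_of_card_ge hBo (hVmax (o.Y0, Q₁, Q₂) ⟨ho, hQcard, _, o, rfl⟩)).symm
  obtain ⟨hB₁', -⟩ := inf_core_eq hT hp2 hconj hR hsep ho
  have hRT : ⁅R, T⁆ ≤ B := hBeq ▸ le_inf (Coprime.commutator_le_left_of_normalizer hR.2)
    (o.comm R hR (le_inf ho.lt₁.le ho.lt₂.le))
  obtain ⟨P₁, hP₁, hQP₁⟩ := hsplit.inside
  obtain ⟨P₂, hP₂m, hP₂, hQP₂⟩ := hsplit.outside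
  rcases o.cases_on_normal B hBI.1 ((inf_le_left.trans hsplit.lt₁.le).trans o.le₁)
    (o.le.trans inf_le_right) with hC | hC | ⟨a, ha, ha1, haB, l, hlT, hla, hlQ⟩
  · -- `Z(J(Q₁))` is normal and gives a larger first side
    have hZ := le_normalizer_zjay hp2 hqd o.sylow hBI.1
      ((inf_le_left.trans hsplit.lt₁.le).trans o.le₁) (o.le.trans inf_le_right) hC
      (hB₁'.le.trans hBeq.le)
    have hQ₁I := hsplit.max₁.2.1
    have hTZ : T ≤ normalizer (Thompson.zjay 0 Q₁ : Set G) :=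
      hQ₁I.2.trans ((Thompson.normalizer_le_normalizer_jay 0 Q₁).trans
        (Thompson.normalizer_jay_le_normalizer_zjay 0 Q₁))
    have hQ₂Z : Q₂ ≤ normalizer (Thompson.zjay 0 Q₁ : Set G) := o.le₂.trans hZ
    rcases eq_or_lt_of_le hQP₁ with he | hlt
    · obtain ⟨P'', hP'', hle⟩ := hclose P₁ hP₁ Q₂ hsplit.max₂.2.1 (he ▸ hQ₂Z)
      exact hsep Q₂ hsplit.max₂.2.1 hsplit.lt₂ P'' hP'' P₂ hP₂m hP₂ hle hQP₂
    have hP₁I := (hNN P₁ hP₁).2.1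
    set S := P₁ ⊓ normalizer (Q₁ : Set G) with hSdef
    have hS : InvP p T S := hP₁I.inf (hQ₁I.2.trans le_normalizer)
    have hQS : Q₁ < S := by
      refine lt_of_le_of_ne (le_inf hQP₁ le_normalizer) fun he => ?_
      have hnil : Group.IsNilpotent ↥P₁ := hP₁I.1.isNilpotent
      have hlt' : Q₁.subgroupOf P₁ < ⊤ := by
        rw [lt_top_iff_ne_top, Ne, subgroupOf_eq_top]
        exact fun h => hlt.not_ge h
      obtain ⟨x, hx, hx'⟩ := SetLike.exists_of_lt (Group.normalizerCondition_of_isNilpotent _ hlt')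
      refine hx' ?_
      rw [← subgroupOf_normalizer_eq hlt.le, mem_subgroupOf] at hx
      have hmem : (x : G) ∈ S := ⟨x.2, hx⟩
      rw [← he] at hmem
      exact mem_subgroupOf.2 hmem
    have hSZ : S ≤ normalizer (Thompson.zjay 0 Q₁ : Set G) :=
      inf_le_right.trans ((Thompson.normalizer_le_normalizer_jay 0 Q₁).trans
        (Thompson.normalizer_jay_le_normalizer_zjay 0 Q₁))
    obtain ⟨Q₁', hQ₁', hle₁'⟩ := exists_isMaxInv hSZ hS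
    obtain ⟨Q₂', hQ₂', hle₂'⟩ := exists_isMaxInv hQ₂Z hsplit.max₂.2.1
    have hne : Thompson.zjay 0 Q₁ ≠ ⊥ :=
      Thompson.zjay_ne_bot hQ₁I.1 (fun h0 => not_lt_bot (h0 ▸ hsplit.lt₁)) (.inl rfl)
    have hnew : Split p T NN R (normalizer (Thompson.zjay 0 Q₁ : Set G)) Q₁' Q₂' :=
      ⟨hTZ.trans le_normalizer, hlocal _ (hQ₁I.1.to_le Thompson.zjay_le) hne, hQ₁', hQ₂',
        (hsplit.lt₁.trans hQS).trans_le hle₁', hsplit.lt₂.trans_le hle₂',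
        side₁ hQ₁I hsplit.lt₁ (hQS.le.trans hle₁') hQ₁'.2.1 ⟨P₁, hP₁, hQP₁⟩,
        side₂ hsplit.max₂.2.1 hsplit.lt₂ hle₂' hQ₂'.2.1 ⟨P₂, hP₂m, hP₂, hQP₂⟩⟩
    have h1 : Nat.card Q₁' ≤ Nat.card Q₁ := (hw0max (_, Q₁', Q₂') hnew).trans hQcard
    exact absurd (eq_of_le_of_card_ge (hQS.le.trans hle₁') h1) (hQS.trans_le hle₁').ne
  · exact hgoodT R hgA (hC.trans (centralizer_le hRT))
  · exact hsep Q₂ hsplit.max₂.2.1 hsplit.lt₂ _
      (hgoodA R hgA a ha ha1 (centralizer_le hRT haB) l hlT hla P₁ hP₁) P₂ hP₂m hP₂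
      (hlQ ▸ map_mono hQP₁) hQP₂

end Cfsg.Agent.H60.GW
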