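import Cfsg.Agent.Coprime.Action
import Cfsg.Agent.Cores.PCore
import Cfsg.Agent.Thompson.ZJ

/-!
# GW programme: maximal invariant `p`-subgroups

`T` is a 2-group, `p` is odd.  Maximal `T`-invariant `p`-subgroups of a subgroup meet invariant
subgroups of odd order in Sylow subgroups.
-/

set_option autoImplicit false

namespace Cfsg.Agent.H60.GW

open Subgroup Cfsg.Agent

universe u

variable {G : Type u} [Group G] {p : ℕ} {T : Subgroup G}

/-- A `T`-invariant `p`-subgroup. -/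
def InvP (p : ℕ) (T Q : Subgroup G) : Prop :=
  IsPGroup p Q ∧ T ≤ normalizer (Q : Set G)

/-- A maximal `T`-invariant `p`-subgroup of `Y`. -/
def IsMaxInv (p : ℕ) (T Y Q : Subgroup G) : Prop :=
  Q ≤ Y ∧ InvP p T Q ∧ ∀ Q' : Subgroup G, Q' ≤ Y → InvP p T Q' → Q ≤ Q' → Q' = Q

/-- The core of a subgroup, as a subgroup of the whole group. -/
def core (Y : Subgroup G) : Subgroup G :=
  (oddCore ↥Y).map Y.subtype

theorem core_le (Y : Subgroup G) : core Y ≤ Y :=
  map_subtype_le _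

theorem le_normalizer_map_subtype {Y : Subgroup G} (N : Subgroup ↥Y) [hN : N.Normal] :
    Y ≤ normalizer ((N.map Y.subtype : Subgroup G) : Set G) := by
  refine le_normalizer_iff.2 fun y hy x hx => ?_
  obtain ⟨z, hz, rfl⟩ := hx
  exact ⟨⟨y, hy⟩ * z * ⟨y, hy⟩⁻¹, hN.conj_mem z hz _, rfl⟩

theorem le_normalizer_core (Y : Subgroup G) : Y ≤ normalizer (core Y : Set G) :=
  le_normalizer_map_subtype _

theorem odd_card_core [Finite G] (Y : Subgroup G) : Odd (Nat.card (core Y)) := by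
  rw [core, card_map_of_injective Y.subtype_injective]
  exact Cores.odd_card_oddCore

theorem le_core [Finite G] {Y N : Subgroup G} (hNY : N ≤ Y) (hYN : Y ≤ normalizer (N : Set G))
    (hN : Odd (Nat.card N)) : N ≤ core Y := by
  have : (N.subgroupOf Y).Normal := normal_subgroupOf_of_le_normalizer hYN
  rw [← map_subgroupOf_eq_of_le hNY]
  refine map_mono (Cores.le_oddCore ?_)
  rwa [Nat.card_congr (subgroupOfEquivOfLe hNY).toEquiv]

theorem map_conj_map_subtype {Y : Subgroup G} {a : G} (ha : a ∈ normalizer (Y : Set G)) :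
    (core Y).map (MulAut.conj a).toMonoidHom = core Y := by
  let e : ↥Y ≃* ↥Y :=
    ((Y.equivMapOfInjective (MulAut.conj a).toMonoidHom (MulAut.conj a).injective).trans
      (MulEquiv.subgroupCongr (Coprime.map_conj_eq ha)))
  have h := Cores.pPrimeCore_map_mulEquiv (p := 2) e
  have hcomp : (MulAut.conj a).toMonoidHom.comp Y.subtype = Y.subtype.comp e.toMonoidHom := by
    ext y; rfl
  unfold core
  rw [Subgroup.map_map, hcomp, ← Subgroup.map_map]
  exact congrArg _ h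

theorem normalizer_le_normalizer_core (Y : Subgroup G) :
    normalizer (Y : Set G) ≤ normalizer (core Y : Set G) :=
  fun _ ha => Coprime.mem_normalizer_of_map_conj (map_conj_map_subtype ha)

theorem InvP.inf {Q K : Subgroup G} (hQ : InvP p T Q) (hK : T ≤ normalizer (K : Set G)) :
    InvP p T (Q ⊓ K) :=
  ⟨hQ.1.to_le inf_le_left, (le_inf hQ.2 hK).trans inf_normalizer_le_normalizer_inf⟩

theorem InvP.sup {Q R : Subgroup G} (hQ : InvP p T Q) (hR : InvP p T R)
    (h : R ≤ normalizer (Q : Set G)) : InvP p T (Q ⊔ R) := by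
  refine ⟨hQ.1.to_sup_of_normal_left' hR.1 h, ?_⟩
  exact (le_inf hQ.2 hR.2).trans (normalizer_inf_normalizer_le_normalizer_sup Q R)

theorem InvP.map_conj {Q : Subgroup G} (hQ : InvP p T Q) {c : G} (hc : c ∈ centralizer (T : Set G)) :
    InvP p T (Q.map (MulAut.conj c).toMonoidHom) := by
  refine ⟨hQ.1.map _, fun a ha => Coprime.mem_normalizer_of_map_conj ?_⟩
  rw [Coprime.map_conj_map_conj, (show a * c = c * a from mem_centralizer_iff.1 hc a ha),
    ← Coprime.map_conj_map_conj, Coprime.map_conj_eq (hQ.2 ha)]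

theorem exists_isMaxInv [Finite G] {Q Y : Subgroup G} (hQY : Q ≤ Y) (hQ : InvP p T Q) :
    ∃ Q', IsMaxInv p T Y Q' ∧ Q ≤ Q' := by
  obtain ⟨M, hQM, hM⟩ := Set.Finite.exists_le_maximal
    (Set.toFinite {M : Subgroup G | M ≤ Y ∧ InvP p T M}) (show Q ∈ _ from ⟨hQY, hQ⟩)
  exact ⟨M, ⟨hM.1.1, hM.1.2, fun Q' h1 h2 h3 => le_antisymm (hM.2 ⟨h1, h2⟩ h3) h3⟩, hQM⟩

theorem IsMaxInv.of_le {Y Z Q : Subgroup G} (hQ : IsMaxInv p T Y Q) (hZY : Z ≤ Y) (hQZ : Q ≤ Z) :
    IsMaxInv p T Z Q :=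
  ⟨hQZ, hQ.2.1, fun Q' h1 h2 h3 => hQ.2.2 Q' (h1.trans hZY) h2 h3⟩

section sylow

variable [Finite G] [hp : Fact p.Prime]

theorem coprime_card_of_odd (hT : IsPGroup 2 T) {K : Subgroup G} (hK : Odd (Nat.card K)) :
    (Nat.card T).Coprime (Nat.card K) := by
  have : Fact (Nat.Prime 2) := ⟨Nat.prime_two⟩
  obtain ⟨k, hk⟩ := hT.exists_card_eq
  rw [hk]
  exact Nat.Coprime.pow_left k (Nat.coprime_two_left.2 hK)

theorem isSolvable_of_isPGroup_two (hT : IsPGroup 2 T) : Group.IsSolvable ↥T := by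
  have : Fact (Nat.Prime 2) := ⟨Nat.prime_two⟩
  have : Group.IsNilpotent ↥T := hT.isNilpotent
  infer_instance

theorem odd_card_sup (hp2 : p ≠ 2) {O Q : Subgroup G} (hO : Odd (Nat.card O)) (hQ : IsPGroup p Q)
    (h : Q ≤ normalizer (O : Set G)) : Odd (Nat.card (O ⊔ Q : Subgroup G)) := by
  obtain ⟨k, hk⟩ := hQ.exists_card_eq
  set M := normalizer (O : Set G)
  have hOM : O ≤ M := le_normalizer
  have : (O.subgroupOf M).Normal := normal_subgroupOf_of_le_normalizer le_rfl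
  have h1 := Cores.card_sup_dvd (Q.subgroupOf M) (O.subgroupOf M)
  rw [← subgroupOf_sup h hOM, Nat.card_congr (subgroupOfEquivOfLe (sup_le h hOM)).toEquiv,
    Nat.card_congr (subgroupOfEquivOfLe h).toEquiv, Nat.card_congr (subgroupOfEquivOfLe hOM).toEquiv,
    sup_comm] at h1
  refine Odd.of_dvd_nat (Odd.mul ?_ hO) h1
  rw [hk]
  exact (hp.out.odd_of_ne_two hp2).pow

/-- The trace of a maximal invariant `p`-subgroup on an invariant odd subgroup is Sylow there. -/
theorem card_inf_eq (hT : IsPGroup 2 T) (hp2 : p ≠ 2) {Y Q O : Subgroup G} (hQ : IsMaxInv p T Y Q)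
    (hOY : O ≤ Y) (hO : Odd (Nat.card O)) (hQO : Q ≤ normalizer (O : Set G))
    (hTO : T ≤ normalizer (O : Set G)) :
    Nat.card (Q ⊓ O : Subgroup G) = p ^ (Nat.card O).factorization p := by
  have hK : T ≤ normalizer ((O ⊔ Q : Subgroup G) : Set G) :=
    (le_inf hTO hQ.2.1.2).trans (normalizer_inf_normalizer_le_normalizer_sup O Q)
  obtain ⟨P, hQP, hPT⟩ := Coprime.exists_invariant_sylow_ge hK
    (coprime_card_of_odd hT (odd_card_sup hp2 hO hQ.2.1.1 hQO))
    (Or.inl (isSolvable_of_isPGroup_two hT)) p le_sup_right hQ.2.1.1 hQ.2.1.2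
  have hPQ := hQ.2.2 _ ((map_subtype_le _).trans (sup_le hOY hQ.1)) ⟨P.isPGroup'.map _, hPT⟩ hQP
  have : (O.subgroupOf (O ⊔ Q)).Normal :=
    normal_subgroupOf_of_le_normalizer (sup_le le_normalizer hQO)
  obtain ⟨P', hP'⟩ := Thompson.exists_sylow_inf_normal P (O.subgroupOf (O ⊔ Q))
  have h1 := P'.card_eq_multiplicity
  rw [Nat.card_congr (subgroupOfEquivOfLe (le_sup_left : O ≤ O ⊔ Q)).toEquiv] at h1
  rw [← h1, ← card_map_of_injective (Subgroup.subtype_injective _), hP',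
    ← card_map_of_injective (O ⊔ Q).subtype_injective, map_inf _ _ _ (Subgroup.subtype_injective _),
    hPQ, map_subgroupOf_eq_of_le le_sup_left]

end sylow

end Cfsg.Agent.H60.GW
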