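import Cfsg.Agent.H60.GW.Fusion
import Cfsg.Agent.Components.BenderUnique
import Cfsg.Agent.Coprime.Generation
import Cfsg.Agent.PGroups.TwoGroups

/-!
# GW v3, FittingStep for a maximal subgroup whose Fitting subgroup is a `p`-group
-/

set_option autoImplicit false
set_option linter.unusedSectionVars false

namespace Cfsg.Agent.H60.GW

open Subgroup Cfsg.Agent
open Cfsg.Agent.H39 (DGen exists_conj_le_sylow orderOf_conj)
open Cfsg.Agent.Components (fitIn)

universe u

variable {G : Type u} [Group G] [Finite G] {S : Sylow 2 G} {l : ℕ} {c s : G}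

theorem sylowDType_of_dGen (hd : DGen (S : Subgroup G) l c s) : H63.GW.SylowDType G := by
  have hne : NeZero (2 * l) := ⟨by have := hd.lpos; omega⟩
  let c' : ↥(S : Subgroup G) := ⟨c, hd.mem_c⟩
  let s' : ↥(S : Subgroup G) := ⟨s, hd.mem_s⟩
  have hoc : orderOf c' = 2 * l := by rw [Subgroup.orderOf_mk, hd.oc]
  have hout : s' ∉ zpowers c' := fun h => hd.out (by
    obtain ⟨i, hi⟩ := mem_zpowers_iff.1 h
    exact mem_zpowers_iff.2 ⟨i, by simpa [c', s'] using congrArg Subtype.val hi⟩)
  have hs2 : s' ^ 2 = 1 := Subtype.ext (by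
    show s ^ 2 = 1
    rw [sq, H39.mul_self_of_orderOf_eq_two hd.os])
  have hconj : s' * c' * s'⁻¹ = c'⁻¹ := Subtype.ext hd.inv
  have hidx : (zpowers c').index = 2 := by
    refine Subgroup.index_eq_two_iff.2 ⟨s', fun g => ?_⟩
    have hmem : ∀ g : ↥(S : Subgroup G), (g : G) ∈ zpowers c → g ∈ zpowers c' := fun g hg => by
      obtain ⟨i, hi⟩ := mem_zpowers_iff.1 hg
      exact mem_zpowers_iff.2 ⟨i, Subtype.ext (by simpa [c'] using hi)⟩
    by_cases hgc : g ∈ zpowers c'
    · exact Or.inr ⟨hgc, fun h => hout ((Subgroup.mul_mem_cancel_left _ hgc).1 h)⟩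
    · exact Or.inl ⟨hmem _ ((hd.cases g g.2).resolve_left fun h => hgc (hmem g h)), hgc⟩
  refine H63.GW.sylowDType_of_dihedral S (n := 2 * l) (by have := hd.lpos; omega)
    (PGroups.nonempty_mulEquiv_dihedral hoc hout hs2 hconj ?_)
  rw [← (zpowers c').card_mul_index, hidx, Nat.card_zpowers, hoc, mul_comm]

theorem two_mul_dvd_of_two_le (hd : DGen (S : Subgroup G) l c s) (hl : l ≠ 1) : ∃ m, l = 2 * m := by
  have h2 : Fact (Nat.Prime 2) := ⟨Nat.prime_two⟩
  obtain ⟨k, hk⟩ := IsPGroup.iff_orderOf.1 S.isPGroup' ⟨c, hd.mem_c⟩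
  rw [Subgroup.orderOf_mk, hd.oc] at hk
  match k, hk with
  | 0, hk => omega
  | 1, hk => omega
  | k + 2, hk => exact ⟨2 ^ k, by rw [pow_succ, pow_succ] at hk; omega⟩

/-- For a four group Sylow subgroup, separation of `s` gives separation of `t * s`. -/
theorem separates_swap (hd : DGen (S : Subgroup G) l c s) (hl : l = 1) {M : Subgroup G}
    (hSM : (S : Subgroup G) ≤ M) (hsep : Cfsg.Agent.GW.Separates M (c ^ l) s (c * s)) :
    Cfsg.Agent.GW.Separates M (c ^ l) (c ^ l * s) s := by
  have h2 : Fact (Nat.Prime 2) := ⟨Nat.prime_two⟩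
  subst hl
  rw [pow_one] at hsep ⊢
  have hcc : c * c = 1 := by
    have := pow_orderOf_eq_one c
    rwa [hd.oc, mul_one, sq] at this
  have hss := H39.mul_self_of_orderOf_eq_two hd.os
  have hcs : Commute c s := by
    have h := hd.inv
    rw [inv_eq_of_mul_eq_one_right hcc] at h
    exact (mul_inv_eq_iff_eq_mul.1 h).symm
  intro x hx
  refine ⟨fun h => ?_, fun h => (hsep x⁻¹ (inv_mem hx)).2 (by
    conv_lhs => rw [← h]
    group)⟩
  have hcom : IsMulCommutative ↥((S.subtype hSM : Sylow 2 ↥M) : Subgroup ↥M) :=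
    ⟨⟨fun a b => Subtype.ext (Subtype.ext (by
      have hmem : ∀ g ∈ (S : Subgroup G), Commute g c ∧ Commute g s := fun g hg => by
        have hgc : Commute g c := by
          show g * c = c * g
          simpa using hd.z_central hg
        refine ⟨hgc, ?_⟩
        rcases hd.cases g hg with hgz | hgz
        · obtain ⟨i, rfl⟩ := mem_zpowers_iff.1 hgz
          exact hcs.zpow_left i
        · obtain ⟨i, hi⟩ := mem_zpowers_iff.1 hgz
          have : g = c ^ i * s := by rw [hi, mul_assoc, hss, mul_one]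
          rw [this]
          exact (hcs.zpow_left i).mul_left (Commute.refl s)
      have ha : ((a : M) : G) ∈ (S : Subgroup G) := a.2
      have hb : ((b : M) : G) ∈ (S : Subgroup G) := b.2
      show ((a : M) : G) * (b : M) = (b : M) * (a : M)
      rcases hd.cases _ hb with hbz | hbz
      · obtain ⟨i, hi⟩ := mem_zpowers_iff.1 hbz
        rw [← hi]
        exact ((hmem _ ha).1.zpow_right i).eq
      · obtain ⟨i, hi⟩ := mem_zpowers_iff.1 hbz
        rw [show ((b : M) : G) = c ^ i * s by rw [hi, mul_assoc, hss, mul_one]]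
        exact (((hmem _ ha).1.zpow_right i).mul_right (hmem _ ha).2).eq))⟩⟩
  obtain ⟨n, hn, hne⟩ := (S.subtype hSM : Sylow 2 ↥M).conj_eq_normalizer_conj_of_mem
    ⟨c * s, hSM (mul_mem hd.mem_c hd.mem_s)⟩ (⟨x, hx⟩⁻¹ : ↥M)
    (show c * s ∈ (S : Subgroup G) from mul_mem hd.mem_c hd.mem_s)
    (show (x⁻¹)⁻¹ * (c * s) * x⁻¹ ∈ (S : Subgroup G) by rw [inv_inv, h]; exact hd.mem_c)
  set g : G := ((n⁻¹ : ↥M) : G) with hgdef
  have hgts : g * (c * s) * g⁻¹ = c := by
    have := congrArg Subtype.val hne
    simp only [inv_inv, Subgroup.coe_mul, Subgroup.coe_inv, h] at this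
    simpa [hgdef] using this.symm
  have hgM : g ∈ M := (n⁻¹ : ↥M).2
  have hgN : g ∈ normalizer ((S : Subgroup G) : Set G) := by
    refine mem_normalizer_iff.2 fun y => ⟨fun hy => ?_, fun hy => ?_⟩
    · exact (mem_normalizer_iff.1 (inv_mem hn) ⟨y, hSM hy⟩).1 hy
    · have hy' : (n⁻¹ : ↥M) * ⟨g⁻¹ * (g * y * g⁻¹) * g, mul_mem (mul_mem (inv_mem hgM) (hSM hy)) hgM⟩ *
          (n⁻¹ : ↥M)⁻¹ ∈ ((S.subtype hSM : Sylow 2 ↥M) : Subgroup ↥M) := by
        show g * (g⁻¹ * (g * y * g⁻¹) * g) * g⁻¹ ∈ (S : Subgroup G)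
        simpa [mul_assoc] using hy
      have := (mem_normalizer_iff.1 (inv_mem hn) _).2 hy'
      have h' : g⁻¹ * (g * y * g⁻¹) * g ∈ (S : Subgroup G) := this
      simpa [mul_assoc] using h'
  -- the odd part of `g` would be all of it
  have hgc : g * c * g⁻¹ = c * s := by
    have hcS := (mem_normalizer_iff.1 hgN c).1 hd.mem_c
    rcases hd.cases _ hcS with hz | hz
    · rcases hd.sq_one_cases hz (by
        rw [show g * c * g⁻¹ * (g * c * g⁻¹) = g * (c * c) * g⁻¹ by group, hcc]; group) with e | e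
      · exact absurd (conj_eq_one_iff.1 e) fun e1 => by
          have := hd.oc; rw [e1, orderOf_one] at this; omega
      · rw [pow_one] at e
        have e1 : c * s = c := mul_left_cancel (mul_right_cancel (hgts.trans e.symm))
        rw [mul_eq_left] at e1
        exact absurd (e1 ▸ one_mem _) hd.out
    · obtain ⟨i, hi⟩ := mem_zpowers_iff.1 hz
      have e : g * c * g⁻¹ = c ^ i * s := by rw [hi, mul_assoc _ s s, hss, mul_one]
      rcases hd.sq_one_cases (zpow_mem (mem_zpowers c) i) (by
          rcases Int.even_or_odd i with ⟨j, rfl⟩ | ⟨j, rfl⟩ <;>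
            rw [← zpow_add] <;> [rw [show j + j + (j + j) = 2 * (2 * j) by ring];
              rw [show 2 * j + 1 + (2 * j + 1) = 2 * (2 * j + 1) by ring]] <;>
            rw [zpow_mul, zpow_two, hcc, one_zpow]) with e1 | e1
      · rw [e1, one_mul] at e
        exact absurd (show g⁻¹ * s * g⁻¹⁻¹ = c by rw [← e]; group) (hsep g⁻¹ (inv_mem hgM)).1
      · rw [e1, pow_one] at e
        exact e
  obtain ⟨k, m, hm, hgm⟩ := Nat.exists_eq_two_pow_mul_odd (orderOf_pos g).ne'
  have hg2 : IsPGroup 2 (zpowers (g ^ m)) := IsPGroup.of_card (n := k) (by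
    rw [Nat.card_zpowers, orderOf_pow' g hm.pos.ne', hgm, Nat.gcd_mul_left_left,
      Nat.mul_div_cancel _ hm.pos])
  have hgS : g ^ m ∈ (S : Subgroup G) := by
    have hle : zpowers (g ^ m) ≤ normalizer ((S : Subgroup G) : Set G) :=
      zpowers_le.2 (pow_mem hgN m)
    have := S.is_maximal' (S.isPGroup'.to_sup_of_normal_left' hg2 hle) le_sup_left
    rw [← this]
    exact mem_sup_right (mem_zpowers _)
  obtain ⟨j, rfl⟩ := hm
  have hpow : ∀ j : ℕ, g ^ (2 * j + 1) * c * (g ^ (2 * j + 1))⁻¹ = c * s := by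
    intro j
    induction j with
    | zero => simpa using hgc
    | succ j ih =>
      rw [show 2 * (j + 1) + 1 = 2 + (2 * j + 1) by ring, pow_add, sq]
      calc g * g * g ^ (2 * j + 1) * c * (g * g * g ^ (2 * j + 1))⁻¹
          = g * (g * (g ^ (2 * j + 1) * c * (g ^ (2 * j + 1))⁻¹) * g⁻¹) * g⁻¹ := by group
        _ = c * s := by rw [ih, hgts, hgc]
  have h1 := hpow j
  have h2 := hd.z_central hgS
  rw [pow_one] at h2
  rw [h2, mul_inv_cancel_right] at h1
  exact hd.out ((mul_eq_left.1 h1.symm).symm ▸ one_mem _)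

/-- In a simple group every involution of a dihedral Sylow subgroup is conjugate to the central one. -/
theorem isConj_z [IsSimpleGroup G] (hd : DGen (S : Subgroup G) l c s) {v : G} (hv : orderOf v = 2) :
    IsConj v (c ^ l) := by
  refine (hd.isConj_z_of_no_index_two (fun H hH2 => ?_) hv).symm
  rcases (normal_of_index_eq_two hH2).eq_bot_or_eq_top with h | h
  · subst h
    rw [Subgroup.index_bot] at hH2
    have h4 : Nat.card (S : Subgroup G) ≤ 2 := (card_le_card_group _).trans_eq hH2
    have hl := hd.lpos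
    have heq : zpowers c = (S : Subgroup G) :=
      eq_of_le_of_card_ge hd.zpowers_le (by rw [Nat.card_zpowers, hd.oc]; omega)
    exact hd.out (heq ▸ hd.mem_s)
  · rw [h, Subgroup.index_top] at hH2
    omega

/-- **FUSION.** If the Fitting subgroup of a maximal `M ≥ C(t)` separating `⟨t, s⟩` is a `p`-group
and `M` has no components, `t` centralises it. -/
theorem commute_of_prime_fitting [IsSimpleGroup G] (hd : DGen (S : Subgroup G) l c s) {M : Subgroup G}
    (hM : IsCoatom M) (hH : centralizer ({c ^ l} : Set G) ≤ M)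
    (hsep : Cfsg.Agent.GW.Separates M (c ^ l) s (c * s)) (hE : Cfsg.layer M = ⊥) {p : ℕ}
    [hp : Fact p.Prime] (hp2 : p ≠ 2) (hF : IsPGroup p (fitIn M)) {x : G} (hx : x ∈ fitIn M) :
    Commute x (c ^ l) := by
  have h2 : Fact (Nat.Prime 2) := ⟨Nat.prime_two⟩
  have hD := sylowDType_of_dGen hd
  set t := c ^ l with ht
  have hSM : (S : Subgroup G) ≤ M := fun g hg =>
    hH (mem_centralizer_singleton_iff.2 (hd.z_central hg))
  have htM : t ∈ M := hSM hd.z_mem
  -- `O_p(M)` is the whole Fitting subgroup and is self-centralising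
  have hfit : Cfsg.fittingSubgroup M = Cfsg.pCore p M :=
    le_antisymm (Components.le_pCore_of_le_fitting
      ((hF.comap_of_injective M.subtype M.subtype_injective).to_le (le_comap_map _ _)) le_rfl)
      (Components.pCore_le_fitting p)
  have hC : centralizer (Cfsg.pCore p M : Set M) ≤ Cfsg.pCore p M := by
    have := Components.centralizer_genFitting_le (G := ↥M)
    rwa [Components.genFitting_eq_sup, hE, bot_sup_eq, hfit] at this
  obtain ⟨P⟩ : Nonempty (Sylow p ↥M) := inferInstance
  have hZn := Thompson.zjay_zero_normal hp2 hC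
    (Thompson.stableOnNormal_of_qd_free hp2 (not_hasSection_qd (hD.subgroup M) hp2)) P
  set P' := (P : Subgroup M).map M.subtype with hP'
  have hP'p : IsPGroup p P' := P.isPGroup'.map _
  -- `O_p(M) ≠ 1`
  have hPne : (P : Subgroup M) ≠ ⊥ := by
    intro h0
    have h1 : Cfsg.pCore p M = ⊥ := le_bot_iff.1 (h0 ▸ Cores.pCore_le_sylow P)
    rw [h1] at hC
    have htc : (⟨t, htM⟩ : M) ∈ centralizer ((⊥ : Subgroup M) : Set M) :=
      mem_centralizer_iff.2 fun y hy => by rw [mem_bot.1 hy, one_mul, mul_one]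
    have e := congrArg Subtype.val (mem_bot.1 (hC htc))
    have := hd.z_order
    rw [show c ^ l = (1 : G) from e, orderOf_one] at this
    omega
  have hZ : normalizer (Thompson.zjay 0 P' : Set G) = M := by
    refine Components.coatom_normalizer hM _ (Thompson.zjay_ne_bot hP'p
      (fun h0 => hPne ((map_eq_bot_iff_of_injective _ M.subtype_injective).1 h0)) (.inl rfl))
      (Thompson.zjay_le.trans (map_subtype_le _)) ?_
    rw [Thompson.zjay_map M.subtype M.subtype_injective]
    exact Components.le_normalizer_map_subtype _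
  -- `P'` is Sylow in `G`
  obtain ⟨Q, hQ⟩ := hP'p.exists_le_sylow
  have hQP : (Q : Subgroup G) = P' := by
    by_contra hne
    have hlt : P' < Q := lt_of_le_of_ne hQ (Ne.symm hne)
    have hnil : Group.IsNilpotent ↥(Q : Subgroup G) := Q.isPGroup'.isNilpotent
    have hlt' : P'.subgroupOf Q < ⊤ := by
      rw [lt_top_iff_ne_top, Ne, subgroupOf_eq_top]
      exact fun h => hlt.not_ge h
    obtain ⟨y, hy, hy'⟩ := SetLike.exists_of_lt (Group.normalizerCondition_of_isNilpotent _ hlt')
    rw [← subgroupOf_normalizer_eq hQ, mem_subgroupOf] at hy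
    have hyM : (y : G) ∈ M := hZ.le (((Thompson.normalizer_le_normalizer_jay 0 P').trans
      (Thompson.normalizer_jay_le_normalizer_zjay 0 P')) hy)
    have hle : (P : Subgroup M) ≤ (Q : Subgroup G).subgroupOf M := fun z hz => hQ ⟨z, hz, rfl⟩
    have := P.is_maximal' (Q.isPGroup'.comap_of_injective M.subtype M.subtype_injective) hle
    have hyP : (⟨y, hyM⟩ : M) ∈ (P : Subgroup M) := by
      rw [← this]
      exact y.2
    exact hy' (mem_subgroupOf.2 ⟨⟨y, hyM⟩, hyP, rfl⟩)
  have hone : IsConj s t := isConj_z hd hd.os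
  have hFM : fitIn M ≤ M := map_subtype_le _
  have hMF : M ≤ normalizer (fitIn M : Set G) := Components.le_normalizer_map_subtype _
  have key : ∀ {w : G}, DGen (S : Subgroup G) l c w → IsConj w t →
      Cfsg.Agent.GW.Separates M t w (c * w) → ∀ {v}, v ∈ fitIn M → Commute v w → Commute v t :=
    fun {w} hdw hw hsw {v} hv hvw => commute_of_fixed hdw hD hp2 hw hH hsw Q (hQP ▸ map_subtype_le _)
      (hQP ▸ hZ.le) hF hFM hMF hv hvw
  have hfs : ∀ {v}, v ∈ fitIn M → Commute v s → Commute v t := key hd hone hsep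
  have hfts : ∀ v, v ∈ fitIn M → Commute v (t * s) → Commute v t := by
    by_cases hl : l = 1
    · subst hl
      have hsep' := separates_swap hd rfl hSM hsep
      have hd' : DGen (S : Subgroup G) 1 c (c * s) := by
        refine ⟨hd.lpos, hd.mem_c, mul_mem hd.mem_c hd.mem_s, hd.oc, ?_, ?_, ?_, fun g hg => ?_⟩
        · simpa using hd.orderOf_out 1
        · rw [mul_inv_rev, show c * s * c * (s⁻¹ * c⁻¹) = c * (s * c * s⁻¹) * c⁻¹ by group, hd.inv]
          group
        · simpa using hd.out_not_mem 1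
        · refine (hd.cases g hg).imp id fun hg' => ?_
          have e : g * (c * s) = (g * s) * c⁻¹ := by
            have h3 : s * c⁻¹ * s⁻¹ = c := by
              have := congrArg (·⁻¹) hd.inv
              simpa [mul_assoc] using this
            calc g * (c * s) = g * (s * c⁻¹ * s⁻¹ * s) := by rw [h3]
              _ = _ := by group
          rw [e]
          exact mul_mem hg' (inv_mem (mem_zpowers c))
      have hcc : c * c = 1 := by
        have := pow_orderOf_eq_one c
        rwa [hd.oc, mul_one, sq] at this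
      refine fun v hv hvw => key hd' ?_ ?_ hv ?_
      · exact isConj_z hd hd'.os
      · simp only [t, pow_one] at hsep' ⊢
        rwa [← mul_assoc, hcc, one_mul]
      · simpa only [t, pow_one] using hvw
    · obtain ⟨m, hm⟩ := two_mul_dvd_of_two_le hd hl
      intro v hv hvw
      have hcm : (c ^ (m : ℤ)) * s * (c ^ (m : ℤ))⁻¹ = t * s := by
        have := hd.conj_reflection 0 m
        rw [zpow_zero, one_mul] at this
        rw [this, ht, zero_add, ← zpow_natCast c l]
        congr 2
        omega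
      have hcmM : c ^ (m : ℤ) ∈ M := hSM (hd.zpow_mem _)
      set a := c ^ (m : ℤ) with ha
      have hv' : a⁻¹ * v * a ∈ fitIn M := Coprime.conj_mem' (hMF hcmM) hv
      have hat : Commute a t := hd.z_central (hd.zpow_mem _)
      have h1 : Commute (a⁻¹ * v * a) s := by
        rw [show s = a⁻¹ * (t * s) * a by rw [← hcm]; group]
        calc a⁻¹ * v * a * (a⁻¹ * (t * s) * a) = a⁻¹ * (v * (t * s)) * a := by group
          _ = a⁻¹ * (t * s * v) * a := by rw [hvw.eq]
          _ = _ := by group
      have h2 := hfs hv' h1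
      rw [show v = a * (a⁻¹ * v * a) * a⁻¹ by group]
      exact ((hat.mul_left h2).mul_left hat.inv_left)
  -- generation by the fixed points
  have hts : Commute t s := (hd.z_central hd.mem_s).symm
  have htne : t ≠ s := fun e => hd.out (e ▸ pow_mem (mem_zpowers c) l)
  obtain ⟨U, hU, hUm⟩ := H39.klein_mk hd.z_order hd.os htne hts.eq
  have hUM : U ≤ M := fun y hy => by
    rcases (hUm y).1 hy with rfl | rfl | rfl | rfl
    exacts [one_mem _, htM, hSM hd.mem_s, mul_mem htM (hSM hd.mem_s)]
  have hUc : IsMulCommutative U := by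
    have := hU
    exact IsKleinFour.isMulCommutative
  have hnc : ¬ IsCyclic U := by
    have := hU
    exact IsKleinFour.not_isCyclic
  obtain ⟨j, hj⟩ := IsPGroup.iff_card.mp hF
  have hcop : (Nat.card U).Coprime (Nat.card (fitIn M)) := by
    rw [hU.card_four, hj, show (4 : ℕ) = 2 ^ 2 from rfl]
    exact ((Nat.coprime_primes Nat.prime_two Fact.out).mpr (Ne.symm hp2)).pow _ _
  have hle : fitIn M ≤ centralizer ({t} : Set G) := by
    refine Coprime.le_of_centralizer_noncyclic_le hnc (hUM.trans hMF) hcop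
      (M := centralizer ({t} : Set G)) ?_
    rintro a ha ha1 v ⟨hv, hva⟩
    have hva' : Commute v a := mem_centralizer_singleton_iff.1 hva
    rcases (hUm a).1 ha with rfl | rfl | rfl | rfl
    · exact absurd rfl ha1
    · exact hva
    · exact mem_centralizer_singleton_iff.2 (hfs hv hva').eq
    · exact mem_centralizer_singleton_iff.2 (hfts v hv hva').eq
  exact mem_centralizer_singleton_iff.1 (hle hx)

/-- The single-prime case of `FittingStep`. -/
theorem fittingStep_prime (h : Cfsg.Agent.GW.Cfg S l c s)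
    {M : Subgroup G} (hM : IsCoatom M) (hH : centralizer ({c ^ l} : Set G) ≤ M)
    (hsep : Cfsg.Agent.GW.Separates M (c ^ l) s (c * s))
    (hE : Cfsg.layer M = ⊥) {p : ℕ} [Fact p.Prime] (hp2 : p ≠ 2) (hF : IsPGroup p (fitIn M))
    {x : G} (hx : x ∈ fitIn M) : Commute x (c ^ l) := by
  have := h.simple
  exact commute_of_prime_fitting h.gen hM hH hsep hE hp2 hF hx

end Cfsg.Agent.H60.GW
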